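import Cfsg.Agent.Chev.Triality.Main
import Cfsg.Agent.Chev.Twist.D4Main

/-!
Every element of `D₄` fixed by triality lies in the generated fixed group; graph automorphisms of
order three.
-/

set_option autoImplicit false
set_option maxRecDepth 100000
set_option maxHeartbeats 1000000

namespace Cfsg.Agent.Chev.Tri

open Cfsg.Lie
open scoped MatrixGroups

universe u

variable {F : Type u} [Field F]

theorem π_cube : ∀ i : Fin chevD4.rank, d4_031_π (d4_031_π (d4_031_π i)) = i := by decide +kernel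

theorem σt_apply (c : Fin chevD4.rank → Fˣ) (i : Fin chevD4.rank) :
    (tw F).σt c i = c (d4_031_π.symm i) := Units.ext rfl

theorem σt_cube (c : Fin chevD4.rank → Fˣ) : (tw F).σt ((tw F).σt ((tw F).σt c)) = c := by
  funext i
  rw [σt_apply, σt_apply, σt_apply]
  exact congrArg c (d4_031_π.symm_apply_eq.2 (d4_031_π.symm_apply_eq.2
    (d4_031_π.symm_apply_eq.2 (π_cube i).symm)))

theorem torus_fx_le {h : GL chevD4.Idx F} (hd : h ∈ chevD4.diagonalSubgroup F)
    (hf : h ∈ (tw F).fx) : h ∈ (tw F).T1 := by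
  obtain ⟨c, rfl⟩ := (mem_diagonal_iff facts_chevD4).1 hd
  rw [(tw F).mem_fx, (tw F).σ_torusHom] at hf
  set z := (tw F).σt c * c⁻¹ with hz
  have hzk : z ∈ (torusHom : (Fin chevD4.rank → Fˣ) →* GL chevD4.Idx F).ker := by
    rw [MonoidHom.mem_ker, hz, map_mul, map_inv, hf, mul_inv_cancel]
  obtain ⟨h0, h1, h2, h3⟩ := d4_center_eqs z fun i =>
    congrFun ((mem_torusHom_ker facts_chevD4 z).1 hzk) i
  have e1 : z (1 : Fin 4) = 1 := by
    have e : (z (1 : Fin 4) ^ 2) ^ 2 = z (1 : Fin 4) ^ 3 := by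
      rw [h1, mul_pow, mul_pow, h0, h2, h3, pow_three', ]
    rw [← pow_mul, show 2 * 2 = 3 + 1 from rfl, pow_succ] at e
    exact mul_eq_left.1 e
  have hz2 : z ^ 2 = 1 := by
    funext i
    change Fin 4 at i
    show z i ^ 2 = 1
    fin_cases i
    · exact h0.trans e1
    · exact (congrArg (· ^ 2) e1).trans (one_pow 2)
    · exact h2.trans e1
    · exact h3.trans e1
  have hsq : c ^ 2 ∈ (tw F).cfix := by
    rw [(tw F).mem_cfix, map_pow, show (tw F).σt c = z * c by rw [hz, inv_mul_cancel_right],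
      mul_pow, hz2, one_mul]
  have hN : c * (tw F).σt c * (tw F).σt ((tw F).σt c) ∈ (tw F).cfix := by
    rw [(tw F).mem_cfix, map_mul, map_mul, σt_cube, mul_comm _ c, mul_assoc]
  have e3 : (torusHom c : GL chevD4.Idx F) =
      torusHom (c * (tw F).σt c * (tw F).σt ((tw F).σt c)) * (torusHom (c ^ 2))⁻¹ := by
    have hf2 : (torusHom ((tw F).σt ((tw F).σt c)) : GL chevD4.Idx F) = torusHom c := by
      rw [← (tw F).σ_torusHom, hf, (tw F).σ_torusHom, hf]
    rw [map_mul, map_mul, hf, hf2, pow_two, map_mul, mul_inv_rev, mul_assoc _ (torusHom c),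
      mul_inv_cancel_left, mul_inv_cancel_right]
  rw [e3]
  exact Subgroup.mul_mem _ ⟨_, hN, rfl⟩ (Subgroup.inv_mem _ ⟨_, hsq, rfl⟩)

theorem fx_le_G1 {g : GL chevD4.Idx F} (hg : g ∈ chevD4.group F) (hf : g ∈ (tw F).fx) :
    g ∈ (tw F).G1 := by
  set T := tw F with hT
  obtain ⟨b, hb, w, x, hx, rfl⟩ := exists_normalForm T.hF hg
  obtain ⟨v, hv, c, rfl⟩ := (mem_borel_iff T.hF).1 hb
  have hρ : T.ρ * pWord T.hF w = pWord T.hF (w.map T.π) * T.ρ := T.rho_pWord w
  have hσb : ∀ (v : GL chevD4.Idx F) (c : Fin chevD4.rank → Fˣ), v ∈ chevD4.posUnipotent F →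
      T.σ (v * torusHom c) ∈ chevD4.borelSubgroup F := fun v c hv => by
    rw [map_mul, T.σ_torusHom]
    exact Subgroup.mul_mem _ (Subgroup.mem_sup_left (T.σ_posUnipotent hv))
      (Subgroup.mem_sup_right (torusHom_mem T.hF _))
  have hσx : T.σ x ∈ uMinus T.hF (pWord T.hF (w.map T.π)) :=
    T.σ_uGens (fun r hr => by
      rw [← Equiv.Perm.mul_apply, ← hρ, Equiv.Perm.mul_apply]
      exact not_le.1 fun h => absurd ((T.rho_pos _).1 h) (not_le.2 hr)) hx
  have hm : ∀ l, monPerm T.hF (nWord T.hF l (F := F)) = pWord T.hF l := fun l =>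
    monPerm_eq T.hF (isMon_nWord T.hF l)
  have he : T.σ (v * torusHom c) * nWord T.hF (w.map T.π) * T.σ x =
      v * torusHom c * nWord T.hF w * x := by
    rw [← T.σ_nWord, ← map_mul, ← map_mul]
    exact hf
  have hu := (normalForm_unique T.hF (hσb v c hv) hb (nWord_mem T.hF _) (nWord_mem T.hF _)
    (by rw [hm]; exact hσx) (by rw [hm]; exact hx) he).1
  obtain ⟨d, hd⟩ := (mem_diagonal_iff T.hF).1 hu
  have hperm : pWord T.hF w = pWord T.hF (w.map T.π) := by
    have h3 := isMon_mul T.hF (isMon_nWord T.hF (w.map T.π) (F := F)) (isMon_torus T.hF d)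
    rw [hd, mul_inv_cancel_left, mul_one] at h3
    exact isMon_unique T.hF (isMon_nWord T.hF w) h3
  have hW1 : T.InW1 (pWord T.hF w) := ⟨pWord_mem T.hF w, by
    show T.ρ * _ = _ * T.ρ
    rw [hρ, ← hperm]⟩
  obtain ⟨ws, hws⟩ := T.exists_pW hW1
  have hmon : nWord T.hF w * (T.nW ws)⁻¹ ∈ chevD4.diagonalSubgroup F := by
    refine mem_diagonal_of_isMon_one T.hF (Subgroup.mul_mem _ (nWord_mem T.hF w)
      (Subgroup.inv_mem _ (T.N1_le_monomial (T.nW_mem_N1 ws)))) ?_
    have := isMon_mul T.hF (isMon_nWord T.hF w (F := F)) (isMon_inv' T.hF (T.isMon_nW ws))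
    rwa [hws, mul_inv_cancel] at this
  obtain ⟨e, hee⟩ := (mem_diagonal_iff T.hF).1 hmon
  have hg' : v * torusHom c * nWord T.hF w * x = v * torusHom (c * e) * T.nW ws * x := by
    rw [map_mul, hee]; group
  rw [hg'] at hf ⊢
  have hnf : T.nW ws ∈ T.fx := T.G1_le_fx (T.N1_le_G1 (T.nW_mem_N1 ws))
  rw [T.mem_fx, map_mul, map_mul, hnf] at hf
  have hxm : x ∈ uMinus T.hF (T.pW ws) := by rwa [hws]
  obtain ⟨hb1, hx1⟩ := (normalForm_unique T.hF (hσb v (c * e) hv)
    (Subgroup.mul_mem _ (Subgroup.mem_sup_left hv) (Subgroup.mem_sup_right (torusHom_mem T.hF _)))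
    (T.N1_le_monomial (T.nW_mem_N1 ws)) (T.N1_le_monomial (T.nW_mem_N1 ws))
    (by rw [monPerm_eq T.hF (T.isMon_nW ws)]; exact T.σ_uMinus (T.inW1_pW ws).2 hxm)
    (by rw [monPerm_eq T.hF (T.isMon_nW ws)]; exact hxm) hf).2 rfl
  rw [map_mul, T.σ_torusHom] at hb1
  obtain ⟨hv1, hh1⟩ := posUnipotent_torus_unique T.hF (T.σ_posUnipotent hv) hv hb1
  refine Subgroup.mul_mem _ (Subgroup.mul_mem _ (Subgroup.mul_mem _ ?_ ?_)
    (T.N1_le_G1 (T.nW_mem_N1 ws))) (T.fm_le_G1 (T.inW1_pW ws) ⟨hxm, hx1⟩)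
  · exact T.U1_le_G1 ⟨hv, hv1⟩
  · exact T.T1_le_G1 (torus_fx_le (torusHom_mem T.hF _) (by
      rw [T.mem_fx, T.σ_torusHom]; exact hh1))

/-- The fixed group as a subgroup of `D₄`. -/
theorem iso031 (τ : ↥(chevD4.group F) ≃* ↥(chevD4.group F))
    (hτ : ∀ g : ↥(chevD4.group F), (τ g : GL chevD4.Idx F) = d4_031_facts.aut (g : GL chevD4.Idx F)) :
    Nonempty (↥(MonoidHom.eqLocus τ.toMonoidHom (MonoidHom.id ↥(chevD4.group F))) ≃*
      ↥(chevG2.group F)) := by
  have h1 : (MonoidHom.eqLocus τ.toMonoidHom (MonoidHom.id ↥(chevD4.group F))).map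
      (chevD4.group F).subtype = (tw F).G1 := by
    ext g
    constructor
    · rintro ⟨⟨g, hg⟩, he, rfl⟩
      refine fx_le_G1 hg ?_
      show (tw F).σ g = g
      rw [σ_eq, ← hτ ⟨g, hg⟩]
      exact congrArg Subtype.val he
    · intro hg
      refine ⟨⟨g, (tw F).G1_le_group hg⟩, Subtype.ext ?_, rfl⟩
      show (τ ⟨g, _⟩ : GL chevD4.Idx F) = g
      rw [hτ, ← σ_eq]
      exact (tw F).G1_le_fx hg
  exact ⟨((Subgroup.equivMapOfInjective _ _ (chevD4.group F).subtype_injective).trans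
    (MulEquiv.subgroupCongr h1)).trans
    (MulEquiv.ofBijective (psi F) ⟨psi_injective, psi_surjective⟩).symm⟩

theorem d4_long : ∀ i : Fin chevD4.rank, chevD4.isLong (chevD4.simple i) = false := by decide +kernel

theorem graphExp_one (c : ℕ) (i j : Fin chevD4.rank) : chevD4.graphExp c i j = 1 := by
  simp [ChevalleyDatum.graphExp, d4_long]

theorem π_inv : d4_310_π.symm = d4_031_π ∧ d4_012_π * d4_012_π = d4_012_π ∧
    d4_213_π * d4_213_π = d4_012_π ∧ d4_032_π * d4_032_π = d4_012_π ∧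
    d4_312_π * d4_312_π = d4_012_π := by
  refine ⟨?_, ?_, ?_, ?_, ?_⟩ <;> (apply Equiv.ext; decide +kernel)

theorem main (τ : MulAut ↥(chevD4.group F)) (hτ : chevD4.IsGraphAut τ) (hτ3 : orderOf τ = 3) :
    Nonempty (↥(MonoidHom.eqLocus τ.toMonoidHom (MonoidHom.id ↥(chevD4.group F))) ≃*
      ↥(chevG2.group F)) := by
  obtain ⟨π, hπ, hgen⟩ := hτ
  simp only [graphExp_one, pow_one] at hgen
  have inv2 : π * π = d4_012_π → False := fun e2 => by
    have h2 : τ * τ = 1 := by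
      refine MulEquiv.ext fun g => Subtype.ext ?_
      have a := d4_012_facts.eq_aut facts_chevD4 (τ * τ) (fun g i t => ⟨fun h => by
          rw [← e2]
          exact ((hgen (τ g) (π i) t).1 ((hgen g i t).1 h)), fun h => by
          rw [← e2]
          exact ((hgen (τ g) (π i) t).2 ((hgen g i t).2 h))⟩) g
      have b := d4_012_facts.eq_aut facts_chevD4 (MulEquiv.refl ↥(chevD4.group F))
        (fun g i t => by
          rw [show d4_012_π i = i from (by decide +kernel : ∀ j, d4_012_π j = j) i]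
          exact ⟨id, id⟩) g
      exact a.trans b.symm
    have h := orderOf_dvd_of_pow_eq_one (show τ ^ 2 = 1 by rw [pow_two, h2])
    rw [hτ3] at h
    exact absurd (Nat.le_of_dvd two_pos h) (by norm_num)
  rcases d4_symm_cases π hπ with rfl | rfl | rfl | rfl | rfl | rfl
  · exact (inv2 π_inv.2.1).elim
  · exact iso031 τ (d4_031_facts.eq_aut facts_chevD4 τ hgen)
  · have hsymm : ∀ (g : ↥(chevD4.group F)) (i : Fin chevD4.rank) (t : F),
        (((g : GL chevD4.Idx F) : Matrix chevD4.Idx chevD4.Idx F) =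
            chevD4.x F (chevD4.simple i) t →
          ((τ.symm g : GL chevD4.Idx F) : Matrix chevD4.Idx chevD4.Idx F) =
            chevD4.x F (chevD4.simple (d4_031_π i)) t) ∧
        (((g : GL chevD4.Idx F) : Matrix chevD4.Idx chevD4.Idx F) =
            chevD4.x F (chevD4.neg (chevD4.simple i)) t →
          ((τ.symm g : GL chevD4.Idx F) : Matrix chevD4.Idx chevD4.Idx F) =
            chevD4.x F (chevD4.neg (chevD4.simple (d4_031_π i))) t) := by
      intro g i t
      have hi : d4_310_π (d4_031_π i) = i := by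
        rw [← π_inv.1, Equiv.apply_symm_apply]
      constructor <;> intro h
      · have h' := (hgen ⟨xG facts_chevD4 (chevD4.simple (d4_031_π i)) t,
          xG_mem_group facts_chevD4 _ _⟩ (d4_031_π i) t).1 (xG_val facts_chevD4 _ _)
        rw [hi, ← h] at h'
        rw [τ.symm_apply_eq.2 (Subtype.ext (Units.ext h'.symm))]
        exact xG_val facts_chevD4 _ _
      · have h' := (hgen ⟨xG facts_chevD4 (chevD4.neg (chevD4.simple (d4_031_π i))) t,
          xG_mem_group facts_chevD4 _ _⟩ (d4_031_π i) t).2 (xG_val facts_chevD4 _ _)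
        rw [hi, ← h] at h'
        rw [τ.symm_apply_eq.2 (Subtype.ext (Units.ext h'.symm))]
        exact xG_val facts_chevD4 _ _
    obtain ⟨e⟩ := iso031 τ.symm (d4_031_facts.eq_aut facts_chevD4 τ.symm hsymm)
    refine ⟨(MulEquiv.subgroupCongr ?_).trans e⟩
    ext g
    exact ⟨fun h => (τ.symm_apply_eq.2 (h : τ g = g).symm : τ.symm g = g),
      fun h => (τ.symm_apply_eq.1 (h : τ.symm g = g)).symm⟩
  · exact (inv2 π_inv.2.2.1).elim
  · exact (inv2 π_inv.2.2.2.1).elim
  · exact (inv2 π_inv.2.2.2.2).elim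

end Cfsg.Agent.Chev.Tri
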