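import Cfsg.Agent.Chev.Triality.Rels
import Cfsg.Agent.Chev.Twist.Group
import Cfsg.Agent.Chev.LiftKernel
import Cfsg.Agent.Chev.ExtraAll
import Cfsg.Agent.Chev.GraphSymm
import Cfsg.Agent.Chev.TorusCard
import Cfsg.Agent.Chev.Simplicity

/-!
The centraliser of the triality automorphism of `D₄` is `G₂`.
-/

set_option autoImplicit false
set_option maxRecDepth 100000
set_option maxHeartbeats 1000000

namespace Cfsg.Agent.Chev.Tri

open Cfsg.Lie
open scoped MatrixGroups

universe u

variable {F : Type u} [Field F]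

theorem id_pow (j : ℕ) (t : F) : ((RingHom.id F) ^ j) t = t := by
  induction j with
  | zero => rfl
  | succ j ih => rw [pow_succ']; exact ih

/-- The twist by the graph automorphism alone. -/
def tw (F : Type u) [Field F] : Twist chevD4 F := twistD4 F (RingHom.id F) fun t => id_pow 3 t

theorem gmap_id (g : GL chevD4.Idx F) : gmap chevD4 (RingHom.id F) g = g :=
  Units.ext (Matrix.ext fun _ _ => rfl)

theorem σ_eq (g : GL chevD4.Idx F) : (tw F).σ g = d4_031_facts.aut g := by
  rw [(tw F).σ_apply, show (tw F).φ = RingHom.id F from rfl, gmap_id]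
  rfl

theorem par (a : Fin (tw F).m) (t : F) : (tw F).Par a t := id_pow _ t

theorem base_chk : ∀ a : Fin 2,
    (((List.range (d4Len a)).map fun j => rtNat chevD4 d4_031_π d4Base true a j).Perm
      (fibre (chevG2.simple a)) ∧ ∀ k ∈ fibre (chevG2.simple a), sgn k = 1) ∧
    (((List.range (d4Len a)).map fun j => rtNat chevD4 d4_031_π d4Base false a j).Perm
      (fibre (chevG2.neg (chevG2.simple a))) ∧
      ∀ k ∈ fibre (chevG2.neg (chevG2.simple a)), sgn k = 1) := by
  decide +kernel

theorem y_eq_Y (s : Bool) (a : Fin (tw F).m) (t : F) :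
    (tw F).y s a t = Y (if s then chevG2.simple a else chevG2.neg (chevG2.simple a)) t := by
  change Fin 2 at a
  set r := if s then chevG2.simple a else chevG2.neg (chevG2.simple a) with hr
  have hp : ((List.range (d4Len a)).map fun j => rtNat chevD4 d4_031_π d4Base s a j).Perm (fibre r) ∧
      ∀ k ∈ fibre r, sgn k = 1 := by
    cases s
    · exact (base_chk a).2
    · exact (base_chk a).1
  have e : ∀ j, ((tw F).rt s a j : ℕ) = rtNat chevD4 d4_031_π d4Base s a j := by
    intro j; cases s <;> rfl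
  have hY : Y r t = ((fibre r).map fun k => xG facts_chevD4 k t).prod := by
    rw [Y, wordG, List.map_map]
    exact congrArg List.prod (List.map_congr_left fun k hk => by simp [hp.2 k hk])
  rw [hY]
  have hy : (tw F).y s a t = (((List.range (d4Len a)).map fun j =>
      rtNat chevD4 d4_031_π d4Base s a j).map fun k => xG facts_chevD4 k t).prod := by
    show ((List.range (d4Len a)).map fun j => xG facts_chevD4 ((tw F).rt s a j : ℕ)
      ((RingHom.id F ^ j) t)).prod = _
    rw [List.map_map]
    exact congrArg List.prod (List.map_congr_left fun j _ => by rw [id_pow, e]; rfl)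
  rw [hy]
  refine (hp.1.map _).prod_eq' ?_
  rw [List.map_map, List.pairwise_map]
  refine List.Pairwise.imp (fun {i j} (_ : i < j) => ?_) List.pairwise_lt_range
  show Commute (xG facts_chevD4 (rtNat chevD4 d4_031_π d4Base s a i) t)
    (xG facts_chevD4 (rtNat chevD4 d4_031_π d4Base s a j) t)
  rw [← e, ← e]
  exact (tw F).commute_same s a i j t t

/-- The pairs. -/
def pairs (F : Type u) [Field F] : Subgroup (GL chevD4.Idx F × GL chevG2.Idx F) :=
  Subgroup.closure {g | ∃ (r : ℕ) (t : F), g = (Y r t, xG facts_chevG2 r t)}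

/-- The generators of the pairs. -/
def pX (r : ℕ) (t : F) : pairs F :=
  ⟨(Y r t, xG facts_chevG2 r t), Subgroup.subset_closure ⟨r, t, rfl⟩⟩

theorem xG_of_ge {r : ℕ} (hr : ¬ r < chevG2.nroots) (t : F) :
    xG facts_chevG2 r t = (1 : GL chevG2.Idx F) :=
  Units.ext (by rw [xG_val, x_of_ge hr]; rfl)

theorem closure_pX : Subgroup.closure
    {g : pairs F | ∃ (r : ℕ) (t : F), r < chevG2.nroots ∧ g = pX r t} = ⊤ := by
  apply Subgroup.map_injective (pairs F).subtype_injective
  rw [← MonoidHom.range_eq_map, Subgroup.range_subtype, MonoidHom.map_closure]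
  refine le_antisymm ((Subgroup.closure_le _).2 ?_) ((Subgroup.closure_le _).2 ?_)
  · rintro _ ⟨g, -, rfl⟩
    exact g.2
  · rintro _ ⟨r, t, rfl⟩
    by_cases hr : r < chevG2.nroots
    · exact Subgroup.subset_closure ⟨pX r t, ⟨r, t, hr, rfl⟩, rfl⟩
    · rw [Y_of_ge hr, xG_of_ge hr]
      exact Subgroup.one_mem _

/-- The lifting of the relations of type `G₂` to the pairs. -/
def liftG2 (F : Type u) [Field F] : Lift facts_chevG2 F (pairs F) where
  X := pX
  θ := (MonoidHom.snd _ _).comp (pairs F).subtype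
  θ_X _ _ := rfl
  add r hr t₁ t₂ := Subtype.ext (Prod.ext (Y_mul hr t₁ t₂) (xG_mul facts_chevG2 r t₁ t₂))
  comm r s hr hs hsr hsn t v := by
    rw [show (pX s v)⁻¹ * (pX r t)⁻¹ * pX s v * pX r t =
      (pX r t * pX s v)⁻¹ * (pX s v * pX r t) by group, inv_mul_eq_iff_eq_mul]
    refine Subtype.ext (Prod.ext ?_ ?_)
    · refine (Y_comm hr hs hsr hsn t v).trans ?_
      show _ = ((MonoidHom.fst _ _).comp (pairs F).subtype)
        (pX r t * pX s v * ((chevG2.commWord F r s t v).map fun p => pX p.1 p.2).prod)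
      simp only [map_mul, map_list_prod, List.map_map]
      rfl
    · refine (xG_comm facts_chevG2 hr hs hsr hsn t v).trans ?_
      show _ = ((MonoidHom.snd _ _).comp (pairs F).subtype)
        (pX r t * pX s v * ((chevG2.commWord F r s t v).map fun p => pX p.1 p.2).prod)
      simp only [map_mul, map_list_prod, List.map_map, wordG]
      rfl
  gen := closure_pX

/-- The first projection. -/
def pfst (F : Type u) [Field F] : pairs F →* GL chevD4.Idx F :=
  (MonoidHom.fst _ _).comp (pairs F).subtype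

theorem pfst_X (r : ℕ) (t : F) : pfst F (pX r t) = Y r t := rfl

theorem pfst_n (a : Fin (tw F).m) (t : F) :
    pfst F ((liftG2 F).n (chevG2.simple a) t) = (tw F).nn a t := by
  show Y _ t * Y _ (-t⁻¹) * Y _ t = (tw F).y true a t * (tw F).y false a (-t⁻¹) * (tw F).y true a t
  rw [y_eq_Y, y_eq_Y]
  rfl

theorem Y_mem_G1 (r : ℕ) (t : F) : Y r t ∈ (tw F).G1 := by
  by_cases hr : r < chevG2.nroots
  swap
  · rw [Y_of_ge hr]; exact Subgroup.one_mem _
  refine facts_chevG2.{u}.root_induction (fun r => ∀ t : F, Y r t ∈ (tw F).G1) (fun j hj t => ?_)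
    (fun i hi r hr ih t => ?_) r hr t
  · exact y_eq_Y true (⟨j, hj⟩ : Fin (tw F).m) t ▸ (tw F).y_mem_G1 (par _ t) true
  · set η : F := ((etaN facts_chevG2 i r : ℤ) : F) with hη
    have h : pfst F ((liftG2 F).n (chevG2.simple i) 1) * Y r (η * t) =
        Y (chevG2.reflectRoot i r) (η * (η * t)) * pfst F ((liftG2 F).n (chevG2.simple i) 1) := by
      rw [← pfst_X, ← pfst_X, ← map_mul, ← map_mul]
      exact congrArg _ ((liftG2 F).n_one_conj_X extra_chevG2 ⟨i, hi⟩ hr (η * t))
    rw [← mul_assoc η, etaN_cast_sq facts_chevG2 hi hr, one_mul, eq_comm,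
      ← eq_mul_inv_iff_mul_eq] at h
    have hn : pfst F ((liftG2 F).n (chevG2.simple i) 1) ∈ (tw F).G1 := by
      rw [show chevG2.simple i = chevG2.simple ((⟨i, hi⟩ : Fin (tw F).m) : ℕ) from rfl, pfst_n]
      exact (tw F).nn_mem_G1 (par _ _)
    rw [h]
    exact Subgroup.mul_mem _ (Subgroup.mul_mem _ hn (ih _)) (Subgroup.inv_mem _ hn)

theorem pfst_range : (pfst F).range = (tw F).G1 := by
  refine le_antisymm ?_ ((Subgroup.closure_le _).2 ?_)
  · rw [pfst, MonoidHom.range_comp, Subgroup.range_subtype, pairs, MonoidHom.map_closure]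
    refine (Subgroup.closure_le _).2 ?_
    rintro _ ⟨_, ⟨r, t, rfl⟩, rfl⟩
    exact Y_mem_G1 r t
  · rintro g ⟨s, a, t, -, rfl⟩
    exact ⟨pX _ t, (pfst_X _ t).trans (y_eq_Y s a t).symm⟩

/-- The first projection into the fixed group. -/
def toFix (F : Type u) [Field F] : pairs F →* ↥(tw F).G1 :=
  (pfst F).codRestrict _ fun x => pfst_range.le ⟨x, rfl⟩

/-- The projection onto the group of type `G₂`. -/
def toG2 (F : Type u) [Field F] : pairs F →* ↥(chevG2.group F) :=
  (liftG2 F).θ.codRestrict _ fun x => (liftG2 F).range_θ.le ⟨x, rfl⟩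

theorem toFix_surjective : Function.Surjective (toFix F) := fun y => by
  obtain ⟨x, hx⟩ := pfst_range.ge y.2
  exact ⟨x, Subtype.ext hx⟩

theorem toG2_surjective : Function.Surjective (toG2 F) := fun y => by
  obtain ⟨x, hx⟩ := (liftG2 F).range_θ.ge y.2
  exact ⟨x, Subtype.ext hx⟩

theorem toG2_val (x : pairs F) : ((toG2 F x : ↥(chevG2.group F)) : GL chevG2.Idx F) = (liftG2 F).θ x :=
  rfl

/-- The elements of the pairs whose first coordinate is in the Borel subgroup. -/
def overBorel (F : Type u) [Field F] : Subgroup (pairs F) :=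
  (chevD4.borelSubgroup F).comap (pfst F)

theorem pX_mem_overBorel {r : ℕ} (hp : half chevG2 ≤ r) (t : F) : pX r t ∈ overBorel F := by
  refine Subgroup.mem_sup_left (wordG_mem facts_chevD4 fun p hp' => ?_)
  obtain ⟨k, hk, rfl⟩ := List.mem_map.1 hp'
  obtain ⟨h1, h2⟩ := List.mem_filter.1 hk
  have hk' : k < chevD4.nroots := List.mem_range.1 h1
  exact mem_posUnipotent_of facts_chevD4 hk'
    ((d4Fold_pos ⟨k, hk'⟩).2 ((beq_iff_eq.1 h2).symm ▸ hp)) _

theorem h_mem_overBorel (a : Fin (tw F).m) {t : F} (ht : t ≠ 0) :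
    (liftG2 F).h (chevG2.simple a) t ∈ overBorel F := by
  show pfst F _ ∈ chevD4.borelSubgroup F
  rw [Lift.h, map_mul, pfst_n, pfst_n, (tw F).nn_neg, (tw F).nn_one,
    show t = ((Units.mk0 t ht : Fˣ) : F) from rfl, (tw F).nn_torus, mul_inv_cancel_right]
  exact Subgroup.mem_sup_right (torusHom_mem facts_chevD4 _)

theorem tor_le_overBorel : (liftG2 F).tor ≤ overBorel F := by
  refine (Subgroup.closure_le _).2 ?_
  rintro _ ⟨i, t, hi, ht, rfl⟩
  exact h_mem_overBorel ⟨i, hi⟩ ht

theorem toG2_ker_le : (toG2 F).ker ≤ (toFix F).ker := by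
  intro x hx
  set C := ((toG2 F).ker).map (toFix F) with hC
  haveI : C.Normal := Subgroup.Normal.map inferInstance _ toFix_surjective
  have hle : C ≤ (chevD4.borelSubgroup F ⊓ (tw F).G1).subgroupOf (tw F).G1 := by
    rintro _ ⟨y, hy, rfl⟩
    refine Subgroup.mem_subgroupOf.2 ⟨?_, (toFix F y).2⟩
    exact tor_le_overBorel ((liftG2 F).ker_le_tor extra_chevG2
      (MonoidHom.mem_ker.2 (congrArg Subtype.val hy)))
  have hbot : C ≤ ⊥ := (tw F).core_trivial ▸ Subgroup.normal_le_normalCore.2 hle
  exact Subgroup.mem_bot.1 (hbot ⟨x, hx, rfl⟩)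

/-- The map from `G₂`. -/
noncomputable def psi (F : Type u) [Field F] : ↥(chevG2.group F) →* ↥(tw F).G1 :=
  (toG2 F).liftOfSurjective toG2_surjective ⟨toFix F, toG2_ker_le⟩

theorem psi_apply (w : pairs F) : psi F (toG2 F w) = toFix F w :=
  MonoidHom.liftOfRightInverse_comp_apply _ _ _ _ _

theorem exists_overBorel {g : GL chevG2.Idx F} (hg : g ∈ chevG2.borelSubgroup F) :
    g ∈ (overBorel F).map (liftG2 F).θ := by
  obtain ⟨v, hv, d, rfl⟩ := (mem_borel_iff facts_chevG2).1 hg
  refine Subgroup.mul_mem _ ?_ ?_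
  · rw [posUnipotent_eq facts_chevG2] at hv
    refine (Subgroup.closure_le _).2 ?_ hv
    rintro x ⟨r, t, h1, -, rfl⟩
    exact ⟨pX r t, pX_mem_overBorel h1 t, rfl⟩
  · rw [← torusHom_eq_wordG facts_chevG2]
    refine ⟨((List.range chevG2.rank).map fun i => (liftG2 F).h (chevG2.simple i)
      (if h : i < chevG2.rank then (d ⟨i, h⟩ : F) else 1)).prod,
      Subgroup.list_prod_mem _ fun x hx => ?_, ?_⟩
    · obtain ⟨i, hi, rfl⟩ := List.mem_map.1 hx
      rw [dif_pos (List.mem_range.1 hi)]
      exact h_mem_overBorel ⟨i, List.mem_range.1 hi⟩ (d _).ne_zero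
    · rw [map_list_prod, List.map_map]
      induction List.range chevG2.rank with
      | nil => rfl
      | cons a l ih =>
        rw [List.map_cons, List.prod_cons, ih, List.flatMap_cons, wordG_append]
        congr 1
        rw [Function.comp_apply, (liftG2 F).θ_h]
        exact Units.ext (by rw [wordG_val, hG_val]; rfl)

theorem pfst_W : ∀ w : List (Fin (tw F).m), pfst F ((liftG2 F).W w) = (tw F).nW w
  | [] => rfl
  | i :: w => by
    rw [(tw F).nW_cons, ← pfst_W w, ← (tw F).nn_one, ← pfst_n, ← map_mul]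
    exact congrArg _ ((liftG2 F).W_cons i w)

theorem psi_injective : Function.Injective (psi F) := by
  refine (MonoidHom.ker_eq_bot_iff _).1 ?_
  have hle : (psi F).ker ≤ (chevG2.borelSubgroup F).subgroupOf (chevG2.group F) := by
    rintro ⟨g, hg⟩ hk
    obtain ⟨b, hb, w, x, hx, rfl⟩ := exists_normalForm facts_chevG2 hg
    obtain ⟨xb, hxb, exb⟩ := exists_overBorel hb
    obtain ⟨xx, hxx, exx⟩ := exists_overBorel (uMinus_le_borel facts_chevG2 _ hx)
    let ws : List (Fin (tw F).m) := w
    have hW : (liftG2 F).θ ((liftG2 F).W w) = nWord facts_chevG2 w := (liftG2 F).θ_W w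
    have hnW : pfst F ((liftG2 F).W w) = (tw F).nW ws := pfst_W w
    have he : toG2 F (xb * (liftG2 F).W w * xx) =
        ⟨b * nWord facts_chevG2 w * x, hg⟩ := Subtype.ext (by
      rw [toG2_val, map_mul, map_mul, exb, exx, hW])
    have h1 : pfst F xb * (tw F).nW ws * pfst F xx = 1 := by
      rw [← hnW, ← map_mul, ← map_mul]
      have := MonoidHom.mem_ker.1 hk
      rw [← he, psi_apply] at this
      exact congrArg Subtype.val this
    have hB : (tw F).nW ws ∈ chevD4.borelSubgroup F := by
      rw [show (tw F).nW ws = (pfst F xb)⁻¹ * (pfst F xb * (tw F).nW ws * pfst F xx) *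
        (pfst F xx)⁻¹ by group, h1, mul_one]
      exact Subgroup.mul_mem _ (Subgroup.inv_mem _ hxb) (Subgroup.inv_mem _ hxx)
    have hd := (borel_inf_monomial (tw F).hF (F := F)).le
      ⟨hB, (tw F).N1_le_monomial ((tw F).nW_mem_N1 ws)⟩
    obtain ⟨c, hc⟩ := (mem_diagonal_iff facts_chevD4).1 hd
    have hp : (tw F).pW ws = 1 := by
      refine isMon_unique facts_chevD4 ((tw F).isMon_nW ws) ?_
      rw [← hc]
      exact isMon_torus facts_chevD4 c
    have hp' : pWord facts_chevG2 w = 1 := Equiv.ext fun s => by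
      obtain ⟨r, rfl⟩ := (d4Fold (RingHom.id F) fun t => id_pow 3 t).surj s
      have := (d4Fold (RingHom.id F) fun t => id_pow 3 t).inter_word ws r
      rw [show (twistD4 F (RingHom.id F) fun t => id_pow 3 t).pW ws = 1 from hp] at this
      rw [Equiv.Perm.one_apply] at this ⊢
      exact (show pWord facts_chevG2 w _ = _ from (congrArg (fun l => pWord facts_chevG2 l _)
        (show w = ws.map _ from (List.map_id w).symm)).trans this.symm)
    exact Subgroup.mem_subgroupOf.2 (Subgroup.mul_mem _ (Subgroup.mul_mem _ hb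
      (Subgroup.mem_sup_right (nWord_mem_diagonal facts_chevG2 w hp')))
      (uMinus_le_borel facts_chevG2 _ hx))
  have := Subgroup.normal_le_normalCore.2 hle
  rwa [normalCore_borel facts_chevG2, le_bot_iff] at this

theorem psi_surjective : Function.Surjective (psi F) := fun y => by
  obtain ⟨w, rfl⟩ := toFix_surjective y
  exact ⟨toG2 F w, psi_apply w⟩

end Cfsg.Agent.Chev.Tri
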