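import Cfsg.Agent.Chev.Twist.D4
import Cfsg.Agent.Chev.Apply
import Cfsg.Agent.Chev.Check.D4

/-!
The products of root elements of `D₄` over the fibres of the folding onto `G₂` satisfy the relations
of type `G₂`.
-/

set_option autoImplicit false
set_option maxRecDepth 100000
set_option maxHeartbeats 4000000

namespace Cfsg.Agent.Chev.Tri

open Cfsg.Lie
open scoped MatrixGroups

universe u

/-- The signs of the roots inside the fibres. -/
def sgn (k : ℕ) : ℤ :=
  ([-1, -1, -1, -1, 1, 1, 1, -1, -1, 1, 1, 1, 1, 1, 1, -1, -1, 1, 1, 1, -1, -1, -1, -1] :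
    List ℤ).getD k 1

/-- The fibre of a root of `G₂`. -/
def fibre (r : ℕ) : List ℕ :=
  (List.range chevD4.nroots).filter fun k => d4FoldP.getD k 0 == r

/-- The formal word of a root of `G₂`. -/
def fibW (r : ℕ) (arg : List Mon) : List (ℕ × List Mon) :=
  (fibre r).map fun k => (k, arg.map fun m => ⟨m.a, m.b, sgn k * m.coef⟩)

/-- The formal commutator word. -/
def comW (r s : ℕ) : List (ℕ × List Mon) :=
  (chevG2.commTerms r s).flatMap fun c => fibW c.1 [⟨c.2.2.1, c.2.2.2, c.2.1 * (-1) ^ c.2.2.1⟩]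

theorem add_chk : ∀ r : Fin chevG2.nroots, eqFree chevD4 d4Cert.T
    (fibW r [⟨1, 0, 1⟩] ++ fibW r [⟨0, 1, 1⟩]) (fibW r [⟨1, 0, 1⟩, ⟨0, 1, 1⟩]) = true := by
  decide +kernel

theorem comm_chk : ∀ r s : Fin chevG2.nroots, (s : ℕ) ≠ r → (s : ℕ) ≠ chevG2.neg r →
    eqFree chevD4 d4Cert.T (fibW s [⟨0, 1, 1⟩] ++ fibW r [⟨1, 0, 1⟩])
      (fibW r [⟨1, 0, 1⟩] ++ fibW s [⟨0, 1, 1⟩] ++ comW r s) = true := by
  decide +kernel

variable {F : Type u} [Field F]

/-- The element of `D₄` attached to a root of `G₂`. -/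
def Y (r : ℕ) (t : F) : GL chevD4.Idx F :=
  wordG facts_chevD4 ((fibre r).map fun k => (k, (sgn k : F) * t))

theorem eval_fibW (r : ℕ) (arg : List Mon) (t u : F) :
    evalW t u (fibW r arg) = (fibre r).map fun k => (k, (sgn k : F) * monsVal t u arg) := by
  rw [evalW, fibW, List.map_map]
  refine List.map_congr_left fun k _ => Prod.ext rfl ?_
  show monsVal t u (arg.map _) = _
  rw [monsVal, monsVal, List.map_map, ← List.sum_map_mul_left]
  exact congrArg List.sum (List.map_congr_left fun m _ => by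
    simp only [Function.comp_apply, Mon.val]; push_cast; ring)

theorem wordG_fibW (r : ℕ) (arg : List Mon) (t u : F) :
    wordG facts_chevD4 (evalW t u (fibW r arg)) = Y r (monsVal t u arg) := by
  rw [eval_fibW, Y]

theorem wordG_eq {w₁ w₂ : List (ℕ × List Mon)} (h : eqFree chevD4 d4Cert.T w₁ w₂ = true) (t u : F) :
    wordG facts_chevD4 (evalW t u w₁) = wordG facts_chevD4 (evalW t u w₂) :=
  Units.ext (by rw [wordG_val, wordG_val]; exact wordMat_eq_of_eqFree d4_checks.tab t u h)

theorem evalW_append (t u : F) (w w' : List (ℕ × List Mon)) :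
    evalW t u (w ++ w') = evalW t u w ++ evalW t u w' := List.map_append

theorem Y_mul {r : ℕ} (hr : r < chevG2.nroots) (t u : F) : Y r t * Y r u = Y r (t + u) := by
  have := wordG_eq (add_chk ⟨r, hr⟩) t u
  rw [evalW_append, wordG_append, wordG_fibW, wordG_fibW, wordG_fibW] at this
  simpa [monsVal, Mon.val] using this

theorem wordG_flatMap {α : Type} (l : List α) (f : α → List (ℕ × List Mon)) (t u : F) :
    wordG facts_chevD4 (evalW t u (l.flatMap f)) =
      (l.map fun c => wordG facts_chevD4 (evalW t u (f c))).prod := by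
  induction l with
  | nil => rfl
  | cons a l ih => rw [List.flatMap_cons, evalW_append, wordG_append, List.map_cons, List.prod_cons, ih]

theorem wordG_comW (r s : ℕ) (t u : F) :
    wordG facts_chevD4 (evalW t u (comW r s)) =
      ((chevG2.commWord F r s t u).map fun p => Y p.1 p.2).prod := by
  rw [comW, wordG_flatMap, ChevalleyDatum.commWord, List.map_map]
  refine congrArg List.prod (List.map_congr_left fun c _ => ?_)
  rw [wordG_fibW]
  refine congrArg (Y c.1) ?_
  simp only [monsVal, List.map_cons, List.map_nil, List.sum_cons, List.sum_nil, Mon.val, add_zero]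
  rw [neg_pow]
  push_cast
  ring

theorem Y_comm {r s : ℕ} (hr : r < chevG2.nroots) (hs : s < chevG2.nroots) (h1 : s ≠ r)
    (h2 : s ≠ chevG2.neg r) (t u : F) :
    Y s u * Y r t = Y r t * Y s u * ((chevG2.commWord F r s t u).map fun p => Y p.1 p.2).prod := by
  have := wordG_eq (comm_chk ⟨r, hr⟩ ⟨s, hs⟩ h1 h2) t u
  rw [evalW_append, evalW_append, evalW_append, wordG_append, wordG_append, wordG_append,
    wordG_fibW, wordG_fibW, wordG_comW] at this
  simpa [monsVal, Mon.val] using this

theorem Y_of_ge {r : ℕ} (hr : ¬ r < chevG2.nroots) (t : F) : Y r t = 1 := by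
  have : fibre r = [] := List.filter_eq_nil_iff.2 fun k hk e => hr (by
    have := d4Fold_lt ⟨k, List.mem_range.1 hk⟩
    rwa [beq_iff_eq.1 e] at this)
  simp [Y, this, wordG]

end Cfsg.Agent.Chev.Tri
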